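import Cfsg.Agent.Components.Cores
import Cfsg.Agent.Hall.Fitting
import Cfsg.Agent.Hall.AutQEight
import Cfsg.Agent.Frob.Structure
import Cfsg.Agent.S3304

/-!
Solvable linear groups transitive on nonzero vectors with vector stabilisers p-groups and trivial
p-core: the derived subgroup has order prime to p.
-/

set_option autoImplicit false

namespace CfsgLib.GagolaSolv

open Subgroup

section Quat

variable {W : Type*} [AddCommGroup W] [Module (ZMod 3) W]

/-- Linear independence of `u` and `I u`, and of a vector outside their span. -/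
theorem sq_ne {α β : ZMod 3} (h : ¬(α = 0 ∧ β = 0)) : α * α + β * β ≠ 0 := by
  revert α β
  decide

theorem two_ne : (2 : ZMod 3) ≠ 0 := by decide

theorem card_zmod_ne : Nat.card {b : ZMod 3 // b ≠ 0} = 2 := by rw [Nat.card_eq_fintype_card]; decide

theorem card_zmod_pair_ne : Nat.card {ab : ZMod 3 × ZMod 3 // ab ≠ (0, 0)} = 8 := by
  rw [Nat.card_eq_fintype_card]; decide

theorem sq_add_one_ne : ∀ a : ZMod 3, a * a + 1 ≠ 0 := by decide

theorem indep {I : W →ₗ[ZMod 3] W} (hI : ∀ w, I (I w) = -w) {u : W} (hu : u ≠ 0) {α β : ZMod 3}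
    (h : α • u + β • I u = 0) : α = 0 ∧ β = 0 := by
  by_contra hne
  have h2 := congrArg I h
  simp only [map_add, map_smul, map_zero, hI] at h2
  have h3 : (α * α + β * β) • u = 0 := by
    calc (α * α + β * β) • u = α • (α • u + β • I u) - β • (α • I u + β • -u) := by module
      _ = 0 := by rw [h, h2, smul_zero, smul_zero, sub_zero]
  exact hu ((smul_eq_zero.mp h3).resolve_left (sq_ne hne))

/-- Quaternion action in characteristic three with every span of `v, I v` invariant: plane. -/
theorem quat_plane [Nontrivial W] (I J : W →ₗ[ZMod 3] W) (hI : ∀ w, I (I w) = -w) (hJ : ∀ w, J (J w) = -w)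
    (hJI : ∀ w, J (I w) = -I (J w))
    (hW : ∀ u : W, u ≠ 0 → (∃ a b : ZMod 3, J u = a • u + b • I u) →
      ∀ v : W, v ≠ 0 → ∃ a b : ZMod 3, J v = a • v + b • I v) :
    ∃ u : W, u ≠ 0 ∧ ∀ w : W, ∃ a b : ZMod 3, w = a • u + b • I u := by
  haveI : Fact (Nat.Prime 3) := ⟨Nat.prime_three⟩
  have h2 : ∀ w : W, w = -w → w = 0 := fun w hw => by
    have h : (2 : ZMod 3) • w = 0 := by
      rw [two_smul]; nth_rewrite 2 [hw]; exact add_neg_cancel w
    exact (smul_eq_zero.mp h).resolve_left two_ne
  have h3 : ∀ w : W, (3 : ℕ) • w = 0 := fun w => ZModModule.char_nsmul_eq_zero 3 w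
  -- a vector killed by 1 + I + J
  obtain ⟨u, hu, hJu⟩ : ∃ u : W, u ≠ 0 ∧ J u = (-1 : ZMod 3) • u + (-1 : ZMod 3) • I u := by
    by_cases hy : ∀ w : W, w - I w - J w = 0
    · exfalso
      obtain ⟨w, hw⟩ := exists_ne (0 : W)
      have hJw : ∀ w, J w = w - I w := fun w => by
        have := hy w
        rw [sub_eq_zero] at this
        exact this.symm
      have e1 : J (I w) = I (J w) := by rw [hJw, hJw w, map_sub]
      have e2 : I (J w) = 0 := h2 _ (e1.symm.trans (hJI w))
      have e3 := congrArg I e2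
      rw [hI, map_zero, neg_eq_zero] at e3
      have e4 := congrArg J e3
      rw [hJ, map_zero, neg_eq_zero] at e4
      exact hw e4
    · push Not at hy
      obtain ⟨w, hw⟩ := hy
      refine ⟨w - I w - J w, hw, ?_⟩
      have e : J (w - I w - J w) + (w - I w - J w) + I (w - I w - J w) = (3 : ℕ) • w := by
        simp only [map_sub, hI, hJ, hJI]
        module
      rw [h3] at e
      rw [← sub_eq_zero]
      refine Eq.trans ?_ e
      module
  refine ⟨u, hu, ?_⟩
  by_contra hno
  push Not at hno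
  obtain ⟨v, hv⟩ := hno
  have hv0 : v ≠ 0 := fun h => hv 0 0 (by rw [h]; module)
  have key : ∀ x : W, (∀ a b : ZMod 3, x ≠ a • u + b • I u) → J x = (-1 : ZMod 3) • x + (-1 : ZMod 3) • I x := by
    intro x hx
    have hx0 : x ≠ 0 := fun h => hx 0 0 (by rw [h]; module)
    have hux : u + x ≠ 0 := fun h => hx (-1) 0 (by
      rw [eq_neg_of_add_eq_zero_right h]; module)
    obtain ⟨a, b, hab⟩ := hW u hu ⟨_, _, hJu⟩ x hx0
    obtain ⟨c, d, hcd⟩ := hW u hu ⟨_, _, hJu⟩ (u + x) hux
    rw [map_add, map_add, hJu, hab] at hcd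
    have e1 : (c - a) • x + (d - b) • I x = (-1 - c) • u + (-1 - d) • I u := by
      linear_combination (norm := module) -hcd
    have e2 : c - a = 0 ∧ d - b = 0 := by
      by_contra hne
      have hs := sq_ne hne
      have e3 := congrArg I e1
      simp only [map_add, map_smul, hI] at e3
      have e4 : ((c - a) * (c - a) + (d - b) * (d - b)) • x =
          ((c - a) * (-1 - c) + (d - b) * (-1 - d)) • u + ((c - a) * (-1 - d) - (d - b) * (-1 - c)) • I u := by
        linear_combination (norm := module) (c - a) • e1 - (d - b) • e3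
      refine hx _ _ ((?_ : x = ((c - a) * (c - a) + (d - b) * (d - b))⁻¹ • (((c - a) * (c - a) + (d - b) * (d - b)) • x)).trans
        (by rw [e4, smul_add, smul_smul, smul_smul]))
      rw [inv_smul_smul₀ hs]
    rw [e2.1, e2.2, zero_smul, zero_smul, add_zero] at e1
    obtain ⟨hc, hd⟩ := indep hI hu e1.symm
    rw [sub_eq_zero] at hc hd
    rw [hab, ← sub_eq_zero.mp e2.1, ← sub_eq_zero.mp e2.2, ← hc, ← hd]
  have hIv : ∀ a b : ZMod 3, I v ≠ a • u + b • I u := fun a b h => hv b (-a) (by
    have e := congrArg I h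
    simp only [map_add, map_smul, hI] at e
    linear_combination (norm := module) -e)
  have e := key (I v) hIv
  rw [hJI, key v hv] at e
  simp only [map_add, map_smul, hI] at e
  have e2 : I v = v := by
    refine sub_eq_zero.mp ((smul_eq_zero.mp (?_ : (2 : ZMod 3) • (I v - v) = 0)).resolve_left two_ne)
    linear_combination (norm := module) e
  have e5 := hI v
  rw [e2, e2] at e5
  exact hv0 (h2 v e5)

end Quat

variable {K V : Type*} [Group K] [CommGroup V]

/-- Transport of a homomorphism to automorphisms into a representation. -/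
noncomputable def rep {p : ℕ} [Module (ZMod p) (Additive V)] (f : K →* MulAut V) :
    Representation (ZMod p) K (Additive V) :=
  CfsgLib.Frob.zmodRep (fun k => MonoidHom.toAdditive (f k).toMonoidHom)
    (fun a => by simp) (fun x y a => by simp [MulAut.mul_apply])

variable [Finite K] [Finite V] [Nontrivial V] (f : K →* MulAut V) {p : ℕ} [hp : Fact p.Prime]

/-- The q-cores are semiregular, hence cyclic or quaternion. -/
theorem pCore_structure (hexp : ∀ v : V, v ^ p = 1)
    (hstab : ∀ k v, v ≠ 1 → f k v = v → IsPGroup p (zpowers k)) (hO : Cfsg.pCore p K = ⊥)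
    (q : ℕ) [hq : Fact q.Prime] :
    IsCyclic (Cfsg.pCore q K) ∨
      (q = 2 ∧ q ≠ p ∧ ∃ k : ℕ, 1 ≤ k ∧ Nonempty (Cfsg.pCore q K ≃* QuaternionGroup (2 ^ k))) := by
  by_cases hqp : q = p
  · subst hqp
    left
    rw [hO]
    infer_instance
  letI : Module (ZMod p) (Additive V) := AddCommGroup.zmodModule (fun x => hexp (Additive.toMul x))
  have hQ := Components.pCore_isPGroup (G := K) q
  have hlat : CfsgLib.Frob.LatFpf (Cfsg.pCore q K) := by
    let ρQ : Representation (ZMod p) (Cfsg.pCore q K) (Additive V) := rep (f.comp (Cfsg.pCore q K).subtype)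
    refine CfsgLib.Frob.latFpf_of_rep ρQ (fun g hg v hv => ?_)
    by_contra hv0
    apply hg
    have h := hstab (g : K) (Additive.toMul v) (fun h => hv0 (Additive.toMul.injective h)) hv
    obtain ⟨i, hi⟩ := h ⟨(g : K), mem_zpowers _⟩
    obtain ⟨j, hj⟩ := hQ g
    have h1 : (g : K) ^ p ^ i = 1 := congrArg Subtype.val hi
    have h2 : (g : K) ^ q ^ j = 1 := congrArg Subtype.val hj
    have h3 := pow_gcd_eq_one.mpr ⟨h1, h2⟩
    rw [(Nat.Coprime.pow i j ((Nat.coprime_primes hp.out hq.out).mpr (Ne.symm hqp))).gcd_eq_one, pow_one] at h3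
    exact Subtype.ext h3
  have hu' := CfsgLib.Frob.LatFpf.uniqueOrderP hlat (hQ.to_subgroup ⊤)
  have hu : CfsgLib.RankOneP.UniqueOrderP q (Cfsg.pCore q K) := fun x y hx hy hx1 => by
    obtain ⟨n, hn⟩ := hu' ⟨x, trivial⟩ ⟨y, trivial⟩ (Subtype.ext hx) (Subtype.ext hy)
      (fun h => hx1 (congrArg Subtype.val h))
    exact ⟨n, congrArg Subtype.val hn⟩
  rcases CfsgLib.RankOneP.isCyclic_or_quaternion hQ hu with h | ⟨h2, h⟩
  · exact Or.inl h
  · exact Or.inr ⟨h2, hqp, h⟩

/-- The exceptional case p = 3, `O_2 ≅ Q_8`. -/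
theorem quat_eight_case (hexp : ∀ v : V, v ^ 3 = 1)
    (htr : ∀ v w : V, v ≠ 1 → w ≠ 1 → ∃ k, f k v = w)
    (hfaith : Function.Injective f)
    (hstab : ∀ k v, v ≠ 1 → f k v = v → IsPGroup 3 (zpowers k))
    (T : Subgroup K) [T.Normal] (e : QuaternionGroup 2 ≃* T) : commutator K ≤ T := by
  classical
  haveI : Fact (Nat.Prime 3) := ⟨Nat.prime_three⟩
  letI : Module (ZMod 3) (Additive V) := AddCommGroup.zmodModule (fun x => hexp (Additive.toMul x))
  let ρ : Representation (ZMod 3) K (Additive V) := rep f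
  have hρ : ∀ x y v, ρ (x * y) v = ρ x (ρ y v) := fun x y v => by rw [map_mul]; rfl
  have hρ1 : ∀ v, ρ 1 v = v := fun v => by rw [map_one]; rfl
  have hnot3 : ∀ t : T, (t : K) ≠ 1 → ∀ v, ρ t v = v → v = 0 := by
    intro t ht v hv
    by_contra hv0
    apply ht
    obtain ⟨i, hi⟩ := hstab (t : K) (Additive.toMul v) (fun h => hv0 (Additive.toMul.injective h)) hv
      ⟨(t : K), mem_zpowers _⟩
    have h1 : (t : K) ^ 3 ^ i = 1 := congrArg Subtype.val hi
    have h2 : (t : K) ^ 8 = 1 := by
      have h : t ^ 8 = 1 := e.symm.injective (by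
        rw [map_pow, map_one]
        generalize e.symm t = x
        revert x
        decide +kernel)
      exact congrArg Subtype.val h
    have h3 := pow_gcd_eq_one.mpr ⟨h1, h2⟩
    rwa [(Nat.Coprime.pow_left i (by decide : Nat.Coprime 3 8)).gcd_eq_one, pow_one] at h3
  set z : K := (e (QuaternionGroup.a 2) : K) with hzdef
  have hz : z ≠ 1 := fun h => by
    have h1 : QuaternionGroup.a 2 = (1 : QuaternionGroup 2) := e.injective (by
      rw [map_one]; exact Subtype.ext h)
    revert h1; decide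
  have hzz : z * z = 1 := by
    rw [hzdef, ← Subgroup.coe_mul, ← map_mul, show (QuaternionGroup.a 2 * QuaternionGroup.a 2 : QuaternionGroup 2) = 1 by decide, map_one]
    rfl
  have hneg : ∀ v, ρ z v = -v := by
    intro v
    have h := hnot3 (e (QuaternionGroup.a 2)) hz (v + ρ z v) (by
      rw [map_add, ← hρ, hzz, hρ1, add_comm])
    exact eq_neg_of_add_eq_zero_right h
  set i : K := (e (QuaternionGroup.a 1) : K) with hidef
  set j : K := (e (QuaternionGroup.xa 0) : K) with hjdef
  have hii : i * i = z := by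
    rw [hidef, hzdef, ← Subgroup.coe_mul, ← map_mul]; rfl
  have hjj : j * j = z := by
    rw [hjdef, hzdef, ← Subgroup.coe_mul, ← map_mul]; rfl
  have hji : j * i = z * (i * j) := by
    rw [hidef, hjdef, hzdef, ← Subgroup.coe_mul, ← Subgroup.coe_mul, ← Subgroup.coe_mul, ← map_mul, ← map_mul, ← map_mul]
    congr 2
  have hI : ∀ w, ρ i (ρ i w) = -w := fun w => by rw [← hρ, hii, hneg]
  have hJ : ∀ w, ρ j (ρ j w) = -w := fun w => by rw [← hρ, hjj, hneg]
  have hJI : ∀ w, ρ j (ρ i w) = -ρ i (ρ j w) := fun w => by rw [← hρ, hji, hρ, hneg, hρ]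
  have hgen : ∀ x : QuaternionGroup 2, ∃ n : Fin 4, x = QuaternionGroup.a 1 ^ n.val ∨
      x = QuaternionGroup.xa 0 * QuaternionGroup.a 1 ^ n.val := by decide +kernel
  have hW : ∀ u, u ≠ 0 → (∃ a b : ZMod 3, ρ j u = a • u + b • ρ i u) →
      ∀ v, v ≠ 0 → ∃ a b : ZMod 3, ρ j v = a • v + b • ρ i v := by
    rintro u hu ⟨a, b, hab⟩ v hv
    -- every element of T keeps the span of u, I u
    have hinvI : ∀ n : ℕ, ∀ c d : ZMod 3, ∃ c' d' : ZMod 3, ρ (i ^ n) (c • u + d • ρ i u) = c' • u + d' • ρ i u := by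
      intro n
      induction n with
      | zero => exact fun c d => ⟨c, d, by rw [pow_zero, hρ1]⟩
      | succ n ih =>
        intro c d
        obtain ⟨c', d', h⟩ := ih (-d) c
        refine ⟨c', d', ?_⟩
        rw [pow_succ, hρ, map_add, map_smul, map_smul, hI, ← h]
        congr 1
        module
    have hinv : ∀ t ∈ T, ∀ c d : ZMod 3, ∃ c' d' : ZMod 3, ρ t (c • u + d • ρ i u) = c' • u + d' • ρ i u := by
      intro t ht c d
      obtain ⟨n, hn⟩ := hgen (e.symm ⟨t, ht⟩)
      obtain ⟨c', d', h⟩ := hinvI n c d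
      rcases hn with hn | hn
      · refine ⟨c', d', ?_⟩
        have ht' : t = i ^ n.val := by
          rw [hidef, ← SubmonoidClass.coe_pow, ← map_pow, ← hn, MulEquiv.apply_symm_apply]
        rw [ht', h]
      · refine ⟨c' * a - d' * a * 0 + d' * b, c' * b - d' * a, ?_⟩
        have ht' : t = j * i ^ n.val := by
          rw [hidef, hjdef, ← SubmonoidClass.coe_pow, ← map_pow, ← Subgroup.coe_mul, ← map_mul, ← hn,
            MulEquiv.apply_symm_apply]
        rw [ht', hρ, h, map_add, map_smul, map_smul, hJI, hab, map_add, map_smul, map_smul, hI]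
        module
    obtain ⟨k, hk⟩ := htr (Additive.toMul u) (Additive.toMul v) (fun h => hu (Additive.toMul.injective h))
      (fun h => hv (Additive.toMul.injective h))
    have hk' : ρ k u = v := congrArg Additive.ofMul hk
    obtain ⟨a₁, b₁, h1⟩ := hinv (k⁻¹ * i * k) (by
      simpa using Subgroup.Normal.conj_mem inferInstance i (e (QuaternionGroup.a 1)).2 k⁻¹) 1 0
    obtain ⟨a₂, b₂, h2⟩ := hinv (k⁻¹ * j * k) (by
      simpa using Subgroup.Normal.conj_mem inferInstance j (e (QuaternionGroup.xa 0)).2 k⁻¹) 1 0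
    rw [one_smul, zero_smul, add_zero] at h1 h2
    have h1' := congrArg (ρ k) h1
    have h2' := congrArg (ρ k) h2
    rw [← hρ, show k * (k⁻¹ * i * k) = i * k by group, hρ, hk', map_add, map_smul, map_smul, hk'] at h1'
    rw [← hρ, show k * (k⁻¹ * j * k) = j * k by group, hρ, hk', map_add, map_smul, map_smul, hk'] at h2'
    have hb1 : b₁ ≠ 0 := by
      intro hb
      rw [hb, zero_smul, add_zero] at h1'
      have h4 := hI v
      rw [h1', map_smul, h1', smul_smul] at h4
      have h5 : (a₁ * a₁ + 1) • v = 0 := by rw [add_smul, one_smul, h4, neg_add_cancel]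
      rcases smul_eq_zero.mp h5 with h6 | h6
      · exact sq_add_one_ne a₁ h6
      · exact hv h6
    refine ⟨a₂ - b₂ * b₁⁻¹ * a₁, b₂ * b₁⁻¹, ?_⟩
    have h4 : ρ k (ρ i u) = b₁⁻¹ • (ρ i v - a₁ • v) := by
      rw [h1', add_sub_cancel_left, inv_smul_smul₀ hb1]
    rw [h2', h4]
    module
  obtain ⟨u, hu, hspan⟩ := quat_plane (ρ i) (ρ j) hI hJ hJI hW
  -- counting
  haveI : Nontrivial (Additive V) := inferInstance
  let S : Subgroup K :=
    { carrier := {k | ρ k u = u}
      one_mem' := hρ1 u
      mul_mem' := fun {x y} hx hy => by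
        show ρ (x * y) u = u
        rw [hρ, hy, hx]
      inv_mem' := fun {x} hx => by
        show ρ x⁻¹ u = u
        nth_rewrite 1 [← (hx : ρ x u = u)]
        rw [← hρ, inv_mul_cancel, hρ1] }
  have hS3 : IsPGroup 3 S := by
    intro k
    obtain ⟨n, hn⟩ := hstab (k : K) (Additive.toMul u) (fun h => hu (Additive.toMul.injective h))
      (congrArg Additive.toMul (k.2 : ρ (k : K) u = u)) ⟨(k : K), mem_zpowers _⟩
    exact ⟨n, Subtype.ext (congrArg Subtype.val hn : (k : K) ^ 3 ^ n = 1)⟩
  choose A B hAB using hspan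
  have hB : ∀ k ∈ S, B (ρ k (ρ i u)) ≠ 0 := by
    intro k hk hB0
    have h := hAB (ρ k (ρ i u))
    rw [hB0, zero_smul, add_zero] at h
    have h2 := congrArg (ρ k⁻¹) h
    rw [← hρ, inv_mul_cancel, hρ1, map_smul, (S.inv_mem hk : ρ k⁻¹ u = u)] at h2
    have h3 : (-A (ρ k (ρ i u))) • u + (1 : ZMod 3) • ρ i u = 0 := by
      linear_combination (norm := module) h2
    exact one_ne_zero (indep hI hu h3).2
  have hext : ∀ k k' : K, ρ k u = ρ k' u → ρ k (ρ i u) = ρ k' (ρ i u) → k = k' := by
    intro k k' h1 h2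
    refine hfaith (MulEquiv.ext fun v => ?_)
    have h : ρ k (Additive.ofMul v) = ρ k' (Additive.ofMul v) := by
      rw [hAB (Additive.ofMul v), map_add, map_add, map_smul, map_smul, map_smul, map_smul, h1, h2]
    exact congrArg Additive.toMul h
  have hScard : Nat.card S ≤ 3 := by
    have h6 : Nat.card S ≤ Nat.card (ZMod 3 × {b : ZMod 3 // b ≠ 0}) := by
      refine Nat.card_le_card_of_injective (fun k => (A (ρ (k : K) (ρ i u)), ⟨B (ρ (k : K) (ρ i u)), hB k k.2⟩)) ?_
      intro k k' hkk
      simp only [Prod.mk.injEq, Subtype.mk.injEq] at hkk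
      refine Subtype.ext (hext _ _ ((k.2 : ρ (k : K) u = u).trans (k'.2 : ρ (k' : K) u = u).symm) ?_)
      rw [hAB (ρ (k : K) (ρ i u)), hAB (ρ (k' : K) (ρ i u)), hkk.1, hkk.2]
    rw [Nat.card_prod, Nat.card_zmod, card_zmod_ne] at h6
    obtain ⟨n, hn⟩ := IsPGroup.iff_card.mp hS3
    rcases n with _ | _ | n
    · rw [hn]; decide
    · rw [hn]; decide
    · have : 9 ≤ 3 ^ (n + 2) := by
        calc 9 = 3 ^ 2 := rfl
          _ ≤ _ := Nat.pow_le_pow_right (by norm_num) (by omega)
      omega
  have hidx : S.index ≤ 8 := by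
    rw [Subgroup.index_eq_card]
    have hW9 := card_zmod_pair_ne
    rw [← hW9]
    have hne : ∀ k : K, ρ k u ≠ 0 := fun k h => hu (by
      rw [← hρ1 u, ← inv_mul_cancel k, hρ, h, map_zero])
    refine Nat.card_le_card_of_injective (fun c => ⟨(A (ρ c.out u), B (ρ c.out u)), fun h => hne c.out ?_⟩) ?_
    · simp only [Prod.mk.injEq] at h
      rw [hAB (ρ c.out u), h.1, h.2, zero_smul, zero_smul, add_zero]
    · intro c d hcd
      simp only [Subtype.mk.injEq, Prod.mk.injEq] at hcd
      have h : ρ c.out u = ρ d.out u := by rw [hAB (ρ c.out u), hAB (ρ d.out u), hcd.1, hcd.2]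
      rw [← QuotientGroup.out_eq' c, ← QuotientGroup.out_eq' d, QuotientGroup.eq]
      show ρ (c.out⁻¹ * d.out) u = u
      rw [hρ, ← h, ← hρ, inv_mul_cancel, hρ1]
  have hK : Nat.card K ≤ 24 := by
    rw [← S.index_mul_card]
    calc S.index * Nat.card S ≤ 8 * 3 := Nat.mul_le_mul hidx hScard
      _ = 24 := rfl
  have hT : Nat.card T = 8 := by
    rw [← Nat.card_congr e.toEquiv, Nat.card_eq_fintype_card, QuaternionGroup.card]
  have hTi : T.index ≤ 3 := by
    have h := T.index_mul_card
    rw [hT] at h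
    omega
  haveI : IsCyclic (K ⧸ T) := by
    have hc : Nat.card (K ⧸ T) = T.index := T.index_eq_card.symm
    have hpos : 0 < T.index := Nat.pos_of_ne_zero Subgroup.index_ne_zero_of_finite
    interval_cases hi : T.index
    · haveI : Subsingleton (K ⧸ T) := (Nat.card_eq_one_iff_unique.mp hc).1
      infer_instance
    · haveI : Fact (Nat.Prime 2) := ⟨Nat.prime_two⟩
      exact isCyclic_of_prime_card hc
    · exact isCyclic_of_prime_card hc
  letI := IsCyclic.commGroup (α := K ⧸ T)
  rw [← QuotientGroup.ker_mk' T]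
  exact Abelianization.commutator_subset_ker _

/-- The derived subgroup contains no nontrivial p-element. -/
theorem derived_p_free [Group.IsSolvable K] (hexp : ∀ v : V, v ^ p = 1)
    (htr : ∀ v w : V, v ≠ 1 → w ≠ 1 → ∃ k, f k v = w)
    (hfaith : Function.Injective f)
    (hstab : ∀ k v, v ≠ 1 → f k v = v → IsPGroup p (zpowers k)) (hO : Cfsg.pCore p K = ⊥)
    {x : K} (hx : x ∈ commutator K) {n : ℕ} (hxp : x ^ p ^ n = 1) : x = 1 := by
  classical
  have hFcop : (Nat.card (Cfsg.pPrimeCore p K)).Coprime p := Components.pPrimeCore_coprime p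
  have hfin : x ∈ Cfsg.pPrimeCore p K → x = 1 := fun h => by
    refine orderOf_eq_one_iff.mp (Nat.eq_one_of_dvd_coprimes
      (Nat.Coprime.pow_right n hFcop) ?_ (orderOf_dvd_of_pow_eq_one hxp))
    exact Subgroup.orderOf_dvd_natCard _ h
  have hnormal : ∀ q : ℕ, (Cfsg.pCore q K).Normal := fun q => by
    haveI := Components.pCore_characteristic (G := K) q
    infer_instance
  have hle : ∀ q : ℕ, q.Prime → Cfsg.pCore q K ≤ Cfsg.pPrimeCore p K := by
    intro q hq
    haveI : Fact q.Prime := ⟨hq⟩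
    by_cases hqp : q = p
    · rw [hqp, hO]; exact bot_le
    refine Components.le_pPrimeCore' (hnormal q) ?_
    obtain ⟨m, hm⟩ := IsPGroup.iff_card.mp (Components.pCore_isPGroup (G := K) q)
    rw [hm]
    exact Nat.Coprime.pow_left m ((Nat.coprime_primes hq hp.out).mpr hqp)
  have hcent : ∀ q : ℕ, q.Prime → Cfsg.pCore q K ≤ centralizer {x} ∨ x ∈ Cfsg.pCore q K := by
    intro q hq
    haveI : Fact q.Prime := ⟨hq⟩
    haveI := hnormal q
    let c : K →* MulAut (Cfsg.pCore q K) := MulAut.conjNormal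
    have hc : c x = 1 → Cfsg.pCore q K ≤ centralizer {x} := fun h y hy => by
      rw [mem_centralizer_singleton_iff]
      have e : (x : K) * y * x⁻¹ = y := by
        have := congrArg Subtype.val (DFunLike.congr_fun h (⟨y, hy⟩ : Cfsg.pCore q K))
        rwa [MulAut.conjNormal_apply] at this
      exact (mul_inv_eq_iff_eq_mul.mp e).symm
    have hkill : ∀ m : ℕ, ¬ p ∣ m → (c x) ^ m = 1 → c x = 1 := fun m hm h => by
      have h1 : (c x) ^ p ^ n = 1 := by rw [← map_pow, hxp, map_one]
      have h2 := pow_gcd_eq_one.mpr ⟨h1, h⟩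
      rwa [(Nat.Coprime.pow_left n (hp.out.coprime_iff_not_dvd.mpr hm)).gcd_eq_one, pow_one] at h2
    rcases pCore_structure f hexp hstab hO q with hcy | ⟨rfl, h2p, k, hk, ⟨e⟩⟩
    · left
      apply hc
      haveI := hcy
      have hcomm : ∀ a b : MulAut (Cfsg.pCore q K), a * b = b * a := fun a b => by
        apply (IsCyclic.mulAutMulEquiv (Cfsg.pCore q K)).injective
        rw [map_mul, map_mul, mul_comm]
      letI : CommGroup (MulAut (Cfsg.pCore q K)) := { mul_comm := hcomm }
      exact Abelianization.commutator_subset_ker c hx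
    · rcases Nat.lt_or_ge k 2 with hk2 | hk2
      · obtain rfl : k = 1 := by omega
        obtain ⟨e4⟩ := CfsgLib.Hall.AutQEight.main
        have h24 : (c x) ^ 24 = 1 := by
          apply (e.trans (MulEquiv.refl _) |> fun e' => (MulAut.congr e').trans e4).injective
          rw [map_pow, map_one, show (24 : ℕ) = Nat.card (Equiv.Perm (Fin 4)) by rw [Nat.card_perm, Nat.card_fin]; rfl]
          exact pow_card_eq_one'
        by_cases h3 : p = 3
        · subst h3
          right
          exact quat_eight_case f hexp htr hfaith hstab _ e.symm hx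
        · left
          refine hc (hkill 24 (fun h => ?_) h24)
          rw [show (24 : ℕ) = 2 ^ 3 * 3 from rfl] at h
          rcases hp.out.dvd_mul.mp h with h | h
          · exact h2p ((Nat.prime_dvd_prime_iff_eq hp.out Nat.prime_two).mp (hp.out.dvd_of_dvd_pow h)).symm
          · exact h3 ((Nat.prime_dvd_prime_iff_eq hp.out Nat.prime_three).mp h)
      · left
        obtain ⟨m, hm⟩ := Cfsg.Agent.S3304.aut_quaternion hk2 e (c x)
        refine hc (hkill (2 ^ m) (fun h => ?_) hm)
        exact h2p ((Nat.prime_dvd_prime_iff_eq hp.out Nat.prime_two).mp (hp.out.dvd_of_dvd_pow h)).symm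
  by_cases hmem : ∃ q : ℕ, q.Prime ∧ x ∈ Cfsg.pCore q K
  · obtain ⟨q, hq, h⟩ := hmem
    exact hfin (hle q hq h)
  push Not at hmem
  have hF : x ∈ centralizer (Cfsg.fittingSubgroup K : Set K) := by
    rw [mem_centralizer_iff]
    have h : Cfsg.fittingSubgroup K ≤ centralizer {x} := by
      rw [Components.fittingSubgroup_eq_iSup]
      exact iSup_le fun q => (hcent q (Nat.prime_of_mem_primeFactors q.2)).resolve_right
        (hmem q (Nat.prime_of_mem_primeFactors q.2))
    exact fun y hy => mem_centralizer_singleton_iff.mp (h hy)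
  have hF2 := CfsgLib.Hall.centralizer_fitting_le hF
  rw [Components.fittingSubgroup_eq_iSup] at hF2
  exact hfin ((iSup_le fun q : (Nat.card K).primeFactors => hle q (Nat.prime_of_mem_primeFactors q.2)) hF2)

end CfsgLib.GagolaSolv
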